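import Cfsg.Agent.H190.Exc.Sec
import Cfsg.Agent.Nodes.CardSup

/-!
# Elementary abelian sections from closed sets of roots (helper187, task 1574)

* `card_le_of_abelian` : a closed set `s` of positive roots with commuting root groups of exponent `t`;
* `card_le_of_level` : a closed set `s ∪ {θ}`, commutators in `X θ`: the section `Sup X (s ∪ {θ}) / X θ`.
-/

set_option autoImplicit false
set_option linter.unusedSectionVars false

namespace Cfsg.Agent.H187.ExcRank

open CoxeterSystem Cfsg.Agent.ChevalleyStructure.CoxeterGeom Cfsg.Agent.Tits.Roots Cfsg.Agent.Tits.Core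
  Cfsg.Agent.Tits.RootComb Cfsg.Agent.Nodes.Comb Cfsg.Agent.Nodes.Reps Cfsg.Agent.Nodes.BNOf
  Cfsg.Agent.Nodes.BNOf.RGD Cfsg.Agent.Nodes.Unique Cfsg.Agent.H190.Exc
open scoped commutatorElement

universe u

/-- a group generated by commuting elements -/
theorem comm_of_gen {G : Type*} [Group G] {S : Set G} (hS : Subgroup.closure S = ⊤)
    (hc : ∀ a ∈ S, ∀ b ∈ S, a * b = b * a) (x y : G) : x * y = y * x := by
  have h1 : ∀ a ∈ S, a ∈ Subgroup.center G := by
    intro a ha
    have h2 : Subgroup.closure S ≤ Subgroup.centralizer ({a} : Set G) := by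
      rw [Subgroup.closure_le]
      intro b hb
      exact Subgroup.mem_centralizer_singleton_iff.2 (hc b hb a ha)
    rw [Subgroup.mem_center_iff]
    intro g
    have h3 : g ∈ Subgroup.centralizer ({a} : Set G) := h2 (by rw [hS]; exact Subgroup.mem_top g)
    exact Subgroup.mem_centralizer_singleton_iff.1 h3
  have h2 : Subgroup.closure S ≤ Subgroup.center G := (Subgroup.closure_le _).2 h1
  have h3 : y ∈ Subgroup.center G := h2 (by rw [hS]; exact Subgroup.mem_top y)
  exact Subgroup.mem_center_iff.1 h3 x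

/-- exponent of a commutative group -/
theorem pow_of_gen {G : Type*} [Group G] {S : Set G} (hS : Subgroup.closure S = ⊤)
    (hc : ∀ x y : G, x * y = y * x) {t : ℕ} (ht : ∀ a ∈ S, a ^ t = 1) (x : G) : x ^ t = 1 := by
  have h1 : x ∈ Subgroup.closure S := by rw [hS]; exact Subgroup.mem_top x
  induction h1 using Subgroup.closure_induction with
  | mem a ha => exact ht a ha
  | one => exact one_pow t
  | mul a b _ _ ha hb => rw [Commute.mul_pow (hc a b), ha, hb, one_mul]
  | inv a _ ha => rw [inv_pow, ha, inv_one]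

variable {I W : Type*} {Y : Type u} [Fintype I] [DecidableEq I] [Group W] [Group Y] {M : CoxeterMatrix I}
  {cs : CoxeterSystem M W} {A : I → I → ℤ} {h : IsCartan M A} {p : ℕ} {T : Subgroup Y} {n : I → Y}
  {X : (I → ℤ) → Subgroup Y} (R : RGD cs h p T n X)

include R

/-- elementary abelian subgroups -/
theorem card_le_of_abelian [Finite W] {t k : ℕ} (hS : SecRank Y t k) {s : Finset (I → ℤ)}
    (hpos : (s : Set (I → ℤ)) ⊆ Pos cs h) (hcl : Closed cs h (s : Set (I → ℤ)))
    (hc : ∀ x ∈ s, ∀ y ∈ s, ∀ a ∈ X x, ∀ b ∈ X y, a * b = b * a) (ht : ∀ x ∈ s, ∀ a ∈ X x, a ^ t = 1) :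
    ∏ x ∈ s, Nat.card (X x) ≤ t ^ k := by
  rw [← Nodes.CardSup.card_sup R hpos hcl]
  set E := Sup X (s : Set (I → ℤ)) with hE
  have hE' : E = Subgroup.closure (⋃ z : (s : Set (I → ℤ)), (X z.1 : Set Y)) := by
    rw [hE, Subgroup.closure_iUnion]
    show (⨆ z : (s : Set (I → ℤ)), X z.1) = _
    congr 1
    funext z
    rw [Subgroup.closure_eq]
  set S : Set ↥E := {g | (g : Y) ∈ (⋃ z : (s : Set (I → ℤ)), (X z.1 : Set Y))} with hSdef
  have hSc : Subgroup.closure S = ⊤ := by
    have h1 : (Subgroup.closure S).map E.subtype = (⊤ : Subgroup ↥E).map E.subtype := by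
      rw [MonoidHom.map_closure, ← MonoidHom.range_eq_map, Subgroup.range_subtype]
      conv_rhs => rw [hE']
      congr 1
      ext g
      constructor
      · rintro ⟨g', hg', rfl⟩
        exact hg'
      · intro hg
        have hgE : g ∈ E := by rw [hE']; exact Subgroup.subset_closure hg
        exact ⟨⟨g, hgE⟩, hg, rfl⟩
    exact Subgroup.map_injective (Subgroup.subtype_injective E) h1
  have hmem : ∀ g ∈ S, ∃ z ∈ s, (g : Y) ∈ X z := by
    intro g hg
    obtain ⟨z, hz⟩ := Set.mem_iUnion.1 hg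
    exact ⟨z.1, z.2, hz⟩
  have hcomm := comm_of_gen hSc (fun a ha b hb => by
    obtain ⟨x, hx, hax⟩ := hmem a ha
    obtain ⟨y, hy, hby⟩ := hmem b hb
    exact Subtype.ext (hc x hx y hy _ hax _ hby))
  have hpow := pow_of_gen hSc hcomm (t := t) (fun a ha => by
    obtain ⟨x, hx, hax⟩ := hmem a ha
    exact Subtype.ext (by rw [SubgroupClass.coe_pow]; exact ht x hx _ hax))
  exact hS.le_of_sub E (fun a ha b hb => congrArg Subtype.val (hcomm ⟨a, ha⟩ ⟨b, hb⟩))
    (fun a ha => by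
      have h1 := congrArg Subtype.val (hpow ⟨a, ha⟩)
      rwa [SubgroupClass.coe_pow] at h1)

/-- elementary abelian sections `Sup X (s ∪ {θ}) / X θ` -/
theorem card_le_of_level [Finite W] [Finite Y] {t k : ℕ} (hS : SecRank Y t k) {s : Finset (I → ℤ)} {θ : I → ℤ}
    (hθ : θ ∉ s) [DecidableEq (I → ℤ)]
    (hpos : ((insert θ s : Finset (I → ℤ)) : Set (I → ℤ)) ⊆ Pos cs h)
    (hcl : Closed cs h ((insert θ s : Finset (I → ℤ)) : Set (I → ℤ)))
    (hc : ∀ x ∈ insert θ s, ∀ y ∈ insert θ s, ∀ a ∈ X x, ∀ b ∈ X y, ⁅a, b⁆ ∈ X θ)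
    (ht : ∀ x ∈ insert θ s, ∀ a ∈ X x, a ^ t ∈ X θ) : ∏ x ∈ s, Nat.card (X x) ≤ t ^ k := by
  have hcard := Nodes.CardSup.card_sup R hpos hcl
  rw [Finset.prod_insert hθ] at hcard
  set E := Sup X ((insert θ s : Finset (I → ℤ)) : Set (I → ℤ)) with hE
  have hE' : E = Subgroup.closure (⋃ z : ((insert θ s : Finset (I → ℤ)) : Set (I → ℤ)), (X z.1 : Set Y)) := by
    rw [hE, Subgroup.closure_iUnion]
    show (⨆ z : ((insert θ s : Finset (I → ℤ)) : Set (I → ℤ)), X z.1) = _
    congr 1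
    funext z
    rw [Subgroup.closure_eq]
  have hXE : ∀ z ∈ insert θ s, X z ≤ E := fun z hz => le_Sup (Finset.mem_coe.2 hz)
  have hθE := hXE θ (Finset.mem_insert_self θ s)
  -- `X θ` is normal in `E`
  have hnorm : E ≤ Subgroup.normalizer (X θ : Set Y) := by
    rw [hE', Subgroup.closure_le]
    intro g hg
    obtain ⟨⟨z, hz⟩, hgz⟩ := Set.mem_iUnion.1 hg
    have hz' : z ∈ insert θ s := Finset.mem_coe.1 hz
    have hgz' : g ∈ X z := hgz
    refine Subgroup.mem_normalizer_iff.2 fun b => ⟨fun hb => ?_, fun hb => ?_⟩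
    · have h1 := hc z hz' θ (Finset.mem_insert_self θ s) g hgz' b hb
      have h2 : g * b * g⁻¹ = ⁅g, b⁆ * b := by rw [commutatorElement_def]; group
      rw [h2]
      exact mul_mem h1 hb
    · have h1 := hc z hz' θ (Finset.mem_insert_self θ s) g⁻¹ (inv_mem hgz') (g * b * g⁻¹) hb
      have h2 : b = ⁅g⁻¹, g * b * g⁻¹⁆ * (g * b * g⁻¹) := by rw [commutatorElement_def]; group
      rw [h2]
      exact mul_mem h1 hb
  set V : Subgroup ↥E := (X θ).subgroupOf E with hV
  have hVn : V.Normal := Subgroup.normal_subgroupOf_iff_le_normalizer hθE |>.2 hnorm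
  set S : Set (↥E ⧸ V) := {g | ∃ z ∈ insert θ s, ∃ a : ↥E, (a : Y) ∈ X z ∧ (a : ↥E ⧸ V) = g} with hSdef
  have hSc : Subgroup.closure S = ⊤ := by
    have h1 : Subgroup.closure {g : ↥E | (g : Y) ∈ (⋃ z : ((insert θ s : Finset (I → ℤ)) : Set (I → ℤ)),
        (X z.1 : Set Y))} = ⊤ := by
      have h1 : (Subgroup.closure {g : ↥E | (g : Y) ∈ (⋃ z : ((insert θ s : Finset (I → ℤ)) : Set (I → ℤ)),
          (X z.1 : Set Y))}).map E.subtype = (⊤ : Subgroup ↥E).map E.subtype := by
        rw [MonoidHom.map_closure, ← MonoidHom.range_eq_map, Subgroup.range_subtype]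
        conv_rhs => rw [hE']
        congr 1
        ext g
        constructor
        · rintro ⟨g', hg', rfl⟩
          exact hg'
        · intro hg
          have hgE : g ∈ E := by rw [hE']; exact Subgroup.subset_closure hg
          exact ⟨⟨g, hgE⟩, hg, rfl⟩
      exact Subgroup.map_injective (Subgroup.subtype_injective E) h1
    have h2 : (⊤ : Subgroup ↥E).map (QuotientGroup.mk' V) = ⊤ :=
      Subgroup.map_top_of_surjective _ (QuotientGroup.mk'_surjective V)
    rw [← h2, ← h1, MonoidHom.map_closure]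
    congr 1
    ext g
    constructor
    · rintro ⟨z, hz, a, ha, rfl⟩
      exact ⟨a, Set.mem_iUnion.2 ⟨⟨z, Finset.mem_coe.2 hz⟩, ha⟩, rfl⟩
    · rintro ⟨a, ha, rfl⟩
      obtain ⟨⟨z, hz⟩, haz⟩ := Set.mem_iUnion.1 ha
      exact ⟨z, Finset.mem_coe.1 hz, a, haz, rfl⟩
  have hcomm := comm_of_gen hSc (by
    rintro _ ⟨x, hx, a, ha, rfl⟩ _ ⟨y, hy, b, hb, rfl⟩
    rw [← QuotientGroup.mk_mul, ← QuotientGroup.mk_mul, QuotientGroup.eq]
    have h1 := hc y hy x hx _ (inv_mem hb) _ (inv_mem ha)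
    have h2 : (a * b)⁻¹ * (b * a) = ⁅b⁻¹, a⁻¹⁆ := by rw [commutatorElement_def]; group
    rw [h2, hV, Subgroup.mem_subgroupOf]
    exact h1)
  have hpow := pow_of_gen hSc hcomm (t := t) (by
    rintro _ ⟨x, hx, a, ha, rfl⟩
    rw [← QuotientGroup.mk_pow, QuotientGroup.eq_one_iff, hV, Subgroup.mem_subgroupOf]
    exact ht x hx _ ha)
  let _ : CommGroup (↥E ⧸ V) := { (inferInstance : Group (↥E ⧸ V)) with mul_comm := hcomm }
  have h1 := hS E (↥E ⧸ V) (QuotientGroup.mk' V) (QuotientGroup.mk'_surjective V) hpow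
  have h2 : Nat.card ↥V = Nat.card (X θ) := Nat.card_congr (Subgroup.subgroupOfEquivOfLe hθE).toEquiv
  have h3 := V.card_eq_card_quotient_mul_card_subgroup
  rw [hcard, h2, mul_comm] at h3
  have h4 : 0 < Nat.card (X θ) := Nat.card_pos
  have h5 := Nat.eq_of_mul_eq_mul_right h4 h3
  rw [h5]
  exact h1

end Cfsg.Agent.H187.ExcRank
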